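import Cfsg.Agent.H562.PQR.Iface
import Cfsg.Agent.H84.CoreTwFB
import Cfsg.Agent.H243.TwFRow
import Cfsg.Agent.H339.TwFNo
import Cfsg.Agent.S2114
import Cfsg.Agent.S1068

/-!
# S3988, the row of `²F₄(q)`, `q ≥ 8`: reduction to Gow's theorem (helper628)

The odd primes dividing `(q - 1)(q² + 1)`: a proper subgroup `Sz(q)`; dividing `q + 1`: a proper subgroup `SL₂(q)`;
the other ones divide `q² - q + 1` or `q⁴ - q² + 1`, elements of these orders commute with no involution.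
-/

set_option autoImplicit false
set_option linter.unusedSectionVars false

namespace Cfsg.Agent.H628.PQR.TwF

/-- `q² - q + 1` has a prime divisor `≥ 5` -/
theorem exists_a {q : ℕ} (h3 : q % 3 = 2) (h8 : 8 ≤ q) :
    ∃ a : ℕ, a.Prime ∧ a ≠ 2 ∧ a ≠ 3 ∧ (q : ZMod a) ^ 2 - q + 1 = 0 := by
  obtain ⟨k, rfl⟩ : ∃ k, q = 3 * k + 2 := ⟨q / 3, by omega⟩
  have hk : 2 ≤ k := by omega
  set n := 3 * (k * (k + 1)) + 1 with hn
  have hn1 : n ≠ 1 := by
    have : 0 < k * (k + 1) := by positivity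
    omega
  have he : Even (k * (k + 1)) := Nat.even_mul_succ_self k
  obtain ⟨j, hj⟩ := he
  refine ⟨n.minFac, Nat.minFac_prime hn1, ?_, ?_, ?_⟩
  · intro h
    have h1 := Nat.minFac_dvd n
    rw [h] at h1
    omega
  · intro h
    have h1 := Nat.minFac_dvd n
    rw [h] at h1
    omega
  · have h1 : ((n : ℕ) : ZMod n.minFac) = 0 := (ZMod.natCast_eq_zero_iff _ _).2 (Nat.minFac_dvd n)
    rw [hn] at h1
    push_cast at h1 ⊢
    linear_combination 3 * h1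

theorem exists_b {q : ℕ} (h2 : q % 2 = 0) (h8 : 8 ≤ q) :
    ∃ b : ℕ, b.Prime ∧ b ≠ 2 ∧ (q : ZMod b) ^ 4 - q ^ 2 + 1 = 0 := by
  obtain ⟨r, rfl⟩ : ∃ r, q = r + 1 := ⟨q - 1, by omega⟩
  set n := (r + 1) ^ 2 * (r * (r + 2)) + 1 with hn
  have hn1 : n ≠ 1 := by
    have : 0 < (r + 1) ^ 2 * (r * (r + 2)) := by
      have : 0 < r := by omega
      positivity
    omega
  refine ⟨n.minFac, Nat.minFac_prime hn1, ?_, ?_⟩
  · intro h
    have h1 := Nat.minFac_dvd n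
    rw [h] at h1
    obtain ⟨j, hj⟩ : ∃ j, r + 1 = 2 * j := ⟨(r + 1) / 2, by omega⟩
    rw [hn, hj] at h1
    have h2 : (2 * j) ^ 2 * (r * (r + 2)) = 2 * (2 * j ^ 2 * (r * (r + 2))) := by ring
    omega
  · have h1 : ((n : ℕ) : ZMod n.minFac) = 0 := (ZMod.natCast_eq_zero_iff _ _).2 (Nat.minFac_dvd n)
    rw [hn] at h1
    push_cast at h1 ⊢
    linear_combination h1

theorem z_three : ∀ y : ZMod 3, y ^ 2 ≠ -1 := by decide

section ZM

variable {p : ℕ} [hp : Fact p.Prime] {q : ℕ}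

theorem no_a (hp3 : p ≠ 3) (hq : 1 ≤ q) (h : (q : ZMod p) ^ 2 - q + 1 = 0) :
    ¬ p ∣ q - 1 ∧ ¬ p ∣ 1 + q * q ∧ ¬ p ∣ 1 + q := by
  have h31 : (3 : ZMod p) ≠ 0 := by
    intro h1
    have h2 : ((3 : ℕ) : ZMod p) = 0 := by exact_mod_cast h1
    exact hp3 ((Nat.prime_dvd_prime_iff_eq hp.out Nat.prime_three).1 ((ZMod.natCast_eq_zero_iff 3 p).1 h2))
  refine ⟨fun h1 => ?_, fun h1 => ?_, fun h1 => ?_⟩
  · have h2 := (ZMod.natCast_eq_zero_iff _ p).2 h1
    rw [Nat.cast_sub hq, Nat.cast_one] at h2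
    have h3 : (q : ZMod p) = 1 := by linear_combination h2
    rw [h3] at h
    exact one_ne_zero (α := ZMod p) (by linear_combination h)
  · have h2 := (ZMod.natCast_eq_zero_iff _ p).2 h1
    push_cast at h2
    have h3 : (q : ZMod p) = 0 := by linear_combination h2 - h
    rw [h3] at h
    exact one_ne_zero (α := ZMod p) (by linear_combination h)
  · have h2 := (ZMod.natCast_eq_zero_iff _ p).2 h1
    push_cast at h2
    have h3 : (q : ZMod p) = -1 := by linear_combination h2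
    rw [h3] at h
    exact h31 (by linear_combination h)

theorem no_b (hq : 1 ≤ q) (h : (q : ZMod p) ^ 4 - q ^ 2 + 1 = 0) :
    ¬ p ∣ q - 1 ∧ ¬ p ∣ 1 + q * q ∧ ¬ p ∣ 1 + q := by
  refine ⟨fun h1 => ?_, fun h1 => ?_, fun h1 => ?_⟩
  · have h2 := (ZMod.natCast_eq_zero_iff _ p).2 h1
    rw [Nat.cast_sub hq, Nat.cast_one] at h2
    have h3 : (q : ZMod p) = 1 := by linear_combination h2
    rw [h3] at h
    exact one_ne_zero (α := ZMod p) (by linear_combination h)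
  · have h2 := (ZMod.natCast_eq_zero_iff _ p).2 h1
    push_cast at h2
    have h3 : (q : ZMod p) ^ 2 = -1 := by linear_combination h2
    have h4 : (3 : ZMod p) = 0 := by
      linear_combination h - ((q : ZMod p) ^ 2 - 2) * h3
    have h5 : ((3 : ℕ) : ZMod p) = 0 := by exact_mod_cast h4
    have h6 : p = 3 := (Nat.prime_dvd_prime_iff_eq hp.out Nat.prime_three).1 ((ZMod.natCast_eq_zero_iff 3 p).1 h5)
    subst h6
    exact z_three _ h3
  · have h2 := (ZMod.natCast_eq_zero_iff _ p).2 h1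
    push_cast at h2
    have h3 : (q : ZMod p) = -1 := by linear_combination h2
    rw [h3] at h
    exact one_ne_zero (α := ZMod p) (by linear_combination h)

theorem no_ab (hp2 : p ≠ 2) (h : (q : ZMod p) ^ 2 - q + 1 = 0) (h' : (q : ZMod p) ^ 4 - q ^ 2 + 1 = 0) : False := by
  have h21 : (2 : ZMod p) ≠ 0 := by
    intro h1
    have h2 : ((2 : ℕ) : ZMod p) = 0 := by exact_mod_cast h1
    exact hp2 ((Nat.prime_dvd_prime_iff_eq hp.out Nat.prime_two).1 ((ZMod.natCast_eq_zero_iff 2 p).1 h2))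
  have h1 : (2 : ZMod p) * (1 - q) = 0 := by
    linear_combination h' - ((q : ZMod p) ^ 2 + q - 1) * h
  have h3 : (q : ZMod p) = 1 := by
    rcases mul_eq_zero.1 h1 with h2 | h2
    · exact absurd h2 h21
    · linear_combination -h2
  rw [h3] at h
  exact one_ne_zero (α := ZMod p) (by linear_combination h)

theorem dvd_a (h : (q : ZMod p) ^ 2 - q + 1 = 0) : p ∣ q ^ 3 + 1 := by
  rw [← ZMod.natCast_eq_zero_iff]
  push_cast
  linear_combination ((q : ZMod p) + 1) * h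

theorem dvd_b (h : (q : ZMod p) ^ 4 - q ^ 2 + 1 = 0) : p ∣ q ^ 6 + 1 := by
  rw [← ZMod.natCast_eq_zero_iff]
  push_cast
  linear_combination ((q : ZMod p) ^ 2 + 1) * h

/-- the odd primes dividing the order -/
theorem cases {k : ℕ} (hp2 : p ≠ 2) (hq : q = 2 ^ k) (h0 : 1 ≤ q)
    (h : p ∣ q ^ 12 * (q - 1) * (q ^ 3 + 1) * (q ^ 4 - 1) * (q ^ 6 + 1)) :
    (p ∣ q - 1 ∨ p ∣ q * q + 1) ∨ p ∣ q + 1 ∨ (¬ p ∣ q + 1 ∧ (q : ZMod p) ^ 2 - q + 1 = 0) ∨
      (q : ZMod p) ^ 4 - q ^ 2 + 1 = 0 := by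
  by_cases h1 : p ∣ q - 1
  · exact Or.inl (Or.inl h1)
  by_cases h2 : p ∣ q * q + 1
  · exact Or.inl (Or.inr h2)
  by_cases h3 : p ∣ q + 1
  · exact Or.inr (Or.inl h3)
  right; right
  have c1 : (q : ZMod p) - 1 ≠ 0 := by
    intro h4
    apply h1
    rw [← ZMod.natCast_eq_zero_iff, Nat.cast_sub h0, Nat.cast_one]
    exact h4
  have c2 : (q : ZMod p) ^ 2 + 1 ≠ 0 := by
    intro h4
    apply h2
    rw [← ZMod.natCast_eq_zero_iff]
    push_cast
    linear_combination h4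
  have c3 : (q : ZMod p) + 1 ≠ 0 := by
    intro h4
    apply h3
    rw [← ZMod.natCast_eq_zero_iff]
    push_cast
    exact h4
  have c0 : (q : ZMod p) ≠ 0 := by
    intro h4
    have h5 := (ZMod.natCast_eq_zero_iff _ p).1 h4
    rw [hq] at h5
    exact hp2 ((Nat.prime_dvd_prime_iff_eq hp.out Nat.prime_two).1 (hp.out.dvd_of_dvd_pow h5))
  have h4 : 1 ≤ q ^ 4 := Nat.one_le_pow _ _ h0
  rw [← ZMod.natCast_eq_zero_iff] at h
  rw [Nat.cast_mul, Nat.cast_mul, Nat.cast_mul, Nat.cast_mul, Nat.cast_sub h0, Nat.cast_sub h4] at h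
  push_cast at h
  have h5 : (q : ZMod p) ^ 12 * ((q : ZMod p) - 1) ^ 2 * ((q : ZMod p) + 1) ^ 2 * ((q : ZMod p) ^ 2 + 1) ^ 2 *
      (((q : ZMod p) ^ 2 - q + 1) * ((q : ZMod p) ^ 4 - q ^ 2 + 1)) = 0 := by
    linear_combination h
  rcases mul_eq_zero.1 h5 with h6 | h6
  · exfalso
    exact (mul_ne_zero (mul_ne_zero (mul_ne_zero (pow_ne_zero _ c0) (pow_ne_zero _ c1)) (pow_ne_zero _ c3))
      (pow_ne_zero _ c2)) h6
  · rcases mul_eq_zero.1 h6 with h7 | h7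
    · exact Or.inl ⟨h3, h7⟩
    · exact Or.inr h7

end ZM

section grp

open Subgroup Cfsg Cfsg.Lie
open Cfsg.Agent.H562.PQR
open Cfsg.Agent.SplitTwo Cfsg.Agent.SplitTwo.ZS
open Cfsg.Agent.KFacts.TwF4 Cfsg.Agent.KFacts.TwF4.Irr Cfsg.Agent.H496.TwFRad Cfsg.Agent.CpAutTwF.Cent

/-- an element of prime order `p` has a centraliser of odd order -/
theorem odd_centralizer {G : Type*} [Group G] [Finite G] {x : G}
    (h : ∀ t : G, t * t = 1 → t ≠ 1 → x * t = t * x → False) : ¬ 2 ∣ Nat.card ↥(centralizer ({x} : Set G)) := by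
  intro hd
  have : Fact (Nat.Prime 2) := ⟨Nat.prime_two⟩
  obtain ⟨⟨t, htc⟩, ht⟩ := exists_prime_orderOf_dvd_card' 2 hd
  rw [Subgroup.orderOf_mk] at ht
  refine h t ?_ ?_ ?_
  · rw [← pow_two, ← ht, pow_orderOf_eq_one]
  · intro h1
    rw [h1, orderOf_one] at ht
    omega
  · exact (mem_centralizer_singleton_iff.1 htc).symm

variable {F : Type*} [Field F] {σ : F →+* F} {G : Type*} [Group G] (S : Full σ G) [Finite F] [Finite G]

include S in
/-- elements of prime order dividing neither `q - 1` nor `q² + 1` nor `q + 1` -/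
theorem odd_cent (hF : ∃ c : Fˣ, c ≠ 1) (hR : S.R.p = 2) {p : ℕ} (hp : p.Prime) (hp2 : p ≠ 2)
    (h1 : ¬ p ∣ Nat.card F - 1) (h2 : ¬ p ∣ 1 + Nat.card F * Nat.card F) (h3 : ¬ p ∣ 1 + Nat.card F) {x : G}
    (hx : orderOf x = p) : ¬ 2 ∣ Nat.card ↥(centralizer ({x} : Set G)) := by
  refine odd_centralizer fun t ht ht1 hxt => ?_
  rcases Cfsg.Agent.H339.TwFNo.dichotomy S hF hR ht ht1 with h | h
  · rcases h hp hp2 hx hxt with h4 | h4
    · exact h1 h4
    · exact h2 h4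
  · rcases h hp hp2 hx hxt with h4 | h4
    · exact h1 h4
    · exact h3 h4

theorem ncomm_of_not_solvable {G : Type*} [Group G] (h : ¬ Group.IsSolvable G) : ∃ x y : G, x * y ≠ y * x := by
  by_contra hcon
  push Not at hcon
  exact h (Group.isSolvable_of_comm hcon)

include S in
/-- the subgroup `Sz(q)` -/
theorem notMin_sz {m : ℕ} (hm : 1 ≤ m) {q : ℕ} (hq : q = 2 ^ (2 * m + 1)) (hF : Nat.card F = q)
    (hFu : ∃ d : Fˣ, d ≠ 1)
    (hG : Nat.card G = q ^ 12 * (q - 1) * (q ^ 3 + 1) * (q ^ 4 - 1) * (q ^ 6 + 1))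
    {p : ℕ} (hp : p.Prime) (hpq : p ∣ q - 1 ∨ p ∣ q * q + 1) : NotMin p G := by
  obtain ⟨h1, h2⟩ := Cfsg.Agent.H84.CoreTwF.simple_L4 S hm (hF.trans hq)
  have hL := Levi.card_L4 S hFu
  rw [hF] at hL
  refine ⟨L4 S, fun h => ?_, not_isPSolvable_of_simple (ncomm_of_not_solvable h2) hp ?_⟩
  · rw [h, Nat.card_congr (Subgroup.topEquiv (G := G)).toEquiv, hG] at hL
    have hq8 : 8 ≤ q := by
      rw [hq]
      calc 8 = 2 ^ 3 := by norm_num
        _ ≤ 2 ^ (2 * m + 1) := Nat.pow_le_pow_right (by norm_num) (by omega)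
    obtain ⟨r, rfl⟩ : ∃ r, q = r + 1 := ⟨q - 1, by omega⟩
    rw [Nat.add_sub_cancel] at hL
    have h4 : (r + 1) ^ 4 - 1 = r * (r + 2) * ((r + 1) * (r + 1) + 1) := by
      apply Nat.sub_eq_of_eq_add
      ring
    rw [h4] at hL
    have h5 : (r + 1) ^ 12 * r * ((r + 1) ^ 3 + 1) * (r * (r + 2) * ((r + 1) * (r + 1) + 1)) * ((r + 1) ^ 6 + 1) =
        ((r + 1) * (r + 1) * r * ((r + 1) * (r + 1) + 1)) *
          ((r + 1) ^ 10 * ((r + 1) ^ 3 + 1) * (r * (r + 2)) * ((r + 1) ^ 6 + 1)) := by ring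
    rw [h5] at hL
    have h6 : 0 < (r + 1) * (r + 1) * r * ((r + 1) * (r + 1) + 1) := by
      have : 0 < r := by omega
      positivity
    have h7 := Nat.eq_of_mul_eq_mul_left h6 (hL.trans (mul_one _).symm)
    have h8 : (r + 1) ^ 6 + 1 = 1 := Nat.dvd_one.1 (Dvd.intro_left _ h7)
    have h9 : 0 < (r + 1) ^ 6 := by positivity
    omega
  · rw [hL]
    rcases hpq with h | h
    · exact (h.mul_left _).mul_right _
    · exact h.mul_left _

end grp

section row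

open Subgroup Cfsg Cfsg.Lie
open Cfsg.Agent.H562.PQR
open Cfsg.Agent.H243.TwFRow (psi psi_mem psi_injective normal_sl)

/-- the subgroup `SL₂(q)` -/
theorem notMin_sl {K : Type} [Field K] [Fintype K] {m : ℕ} (hm : 1 ≤ m) (hK : Fintype.card K = 2 ^ (2 * m + 1))
    {p : ℕ} (hp : p.Prime) (hpq : p ∣ Fintype.card K + 1) : NotMin p ↥(twistedF4 K (2 ^ m)) := by
  have hfact : Fact p.Prime := ⟨hp⟩
  have hchar : CharP K 2 := Cfsg.Agent.ChevalleyStructure.TwF4.Twisted.charP_two hK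
  have : Fact (Nat.Prime 2) := ⟨Nat.prime_two⟩
  have h8 : 8 ≤ Fintype.card K := by
    rw [hK]
    calc 8 = 2 ^ 3 := by norm_num
      _ ≤ 2 ^ (2 * m + 1) := Nat.pow_le_pow_right (by norm_num) (by omega)
  let σ : K →+* K := iterateFrobenius K 2 m
  have hσ : ∀ t, σ t = t ^ 2 ^ m := fun t => iterateFrobenius_def 2 m t
  have hcard : Nat.card (Matrix.SpecialLinearGroup (Fin 2) K) = Fintype.card K * (Fintype.card K ^ 2 - 1) :=
    Cfsg.Agent.ClassicalGeometry.PSL2Basic.card_SL2 K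
  have hna : ∃ x y : Matrix.SpecialLinearGroup (Fin 2) K, x * y ≠ y * x := by
    refine ⟨Cfsg.Agent.ChevalleyStructure.SL2Hom.up 1, Cfsg.Agent.ChevalleyStructure.SL2Hom.lo 1, fun h => ?_⟩
    have h8 := congrArg (fun A : Matrix.SpecialLinearGroup (Fin 2) K => (A : Matrix (Fin 2) (Fin 2) K) 0 0) h
    change ((Cfsg.Agent.ChevalleyStructure.SL2Hom.up (1 : K)).1 * (Cfsg.Agent.ChevalleyStructure.SL2Hom.lo (1 : K)).1) 0 0
      = ((Cfsg.Agent.ChevalleyStructure.SL2Hom.lo (1 : K)).1 * (Cfsg.Agent.ChevalleyStructure.SL2Hom.up (1 : K)).1) 0 0 at h8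
    simp [Cfsg.Agent.ChevalleyStructure.SL2Hom.up, Cfsg.Agent.ChevalleyStructure.SL2Hom.lo, Matrix.mul_apply,
      Fin.sum_univ_two] at h8
  have hnt : Nontrivial (Matrix.SpecialLinearGroup (Fin 2) K) := by
    obtain ⟨x, y, h⟩ := hna
    refine ⟨⟨x, 1, fun h1 => h ?_⟩⟩
    rw [h1, one_mul, mul_one]
  have hs : IsSimpleGroup (Matrix.SpecialLinearGroup (Fin 2) K) :=
    ⟨fun N hN => normal_sl (by omega) N⟩
  obtain ⟨r, hr⟩ : ∃ r, Fintype.card K = r + 1 := ⟨Fintype.card K - 1, by omega⟩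
  have h2 : (r + 1) ^ 2 - 1 = r * (r + 2) := by
    apply Nat.sub_eq_of_eq_add
    ring
  refine NotMin.of_injective ((psi σ).codRestrict (twistedF4 K (2 ^ m)) (psi_mem σ hσ)) ?_
    (not_isPSolvable_of_simple hna hp ?_) ?_
  · intro A B h
    exact psi_injective (by omega) σ (congrArg Subtype.val h)
  · rw [hcard]
    rw [hr] at hpq ⊢
    rw [h2]
    exact (hpq.mul_left r).mul_left _
  · have hG := Cfsg.Agent.S1068.result hK
    rw [← hK] at hG
    rw [hG, hcard, hr, h2]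
    have h3 : (r + 1) ^ 4 - 1 = r * (r + 2) * ((r + 1) * (r + 1) + 1) := by
      apply Nat.sub_eq_of_eq_add
      ring
    rw [h3, Nat.add_sub_cancel]
    have h5 : (r + 1) ^ 12 * r * ((r + 1) ^ 3 + 1) * (r * (r + 2) * ((r + 1) * (r + 1) + 1)) * ((r + 1) ^ 6 + 1) =
        ((r + 1) * (r * (r + 2))) *
          (((r + 1) ^ 11 * r * ((r + 1) ^ 3 + 1) * ((r + 1) * (r + 1) + 1)) * ((r + 1) ^ 6 + 1)) := by ring
    rw [h5]
    have hr0 : 0 < r := by omega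
    have h6 : 0 < (r + 1) * (r * (r + 2)) := by positivity
    have h7 : 0 < (r + 1) ^ 11 * r * ((r + 1) ^ 3 + 1) * ((r + 1) * (r + 1) + 1) := by positivity
    have h8 : 0 < (r + 1) ^ 6 := by positivity
    have h9 : 1 < ((r + 1) ^ 11 * r * ((r + 1) ^ 3 + 1) * ((r + 1) * (r + 1) + 1)) * ((r + 1) ^ 6 + 1) := by
      calc 1 < 1 * ((r + 1) ^ 6 + 1) := by omega
        _ ≤ _ := Nat.mul_le_mul_right _ h7
    exact lt_mul_of_one_lt_right h6 h9

theorem mod_three (m : ℕ) : 2 ^ (2 * m + 1) % 3 = 2 := by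
  induction m with
  | zero => norm_num
  | succ m ih =>
    have e : 2 ^ (2 * (m + 1) + 1) = 2 ^ (2 * m + 1) * 4 := by ring
    rw [e, Nat.mul_mod, ih]

/-- **The row of `²F₄(q)`**, given triples for elements with centralisers of odd order -/
theorem row_core {K : Type} [Field K] [Fintype K] {m : ℕ} (hm : 1 ≤ m) (hK : Fintype.card K = 2 ^ (2 * m + 1))
    (tri : ∀ {a b : ℕ}, a.Prime → b.Prime → a ≠ b → ∀ {x y : ↥(twistedF4 K (2 ^ m))}, PE a x → PE b y →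
      ¬ 2 ∣ Nat.card ↥(centralizer ({x} : Set ↥(twistedF4 K (2 ^ m)))) →
      ¬ 2 ∣ Nat.card ↥(centralizer ({y} : Set ↥(twistedF4 K (2 ^ m)))) →
      ∃ x y z : ↥(twistedF4 K (2 ^ m)), PE a x ∧ PE b y ∧ PE 2 z ∧ x * y * z = 1) :
    RowOdd ↥(twistedF4 K (2 ^ m)) := by
  obtain ⟨φ, hφ⟩ := Cfsg.Agent.ChevalleyStructure.TwF4.TwistedFix.exists_rln hK
  have hch := Cfsg.Agent.ChevalleyStructure.TwF4.Twisted.charP_two hK
  have hfin : Finite ↥(twistedF4 K (2 ^ m)) := inferInstance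
  have hF : ∃ c : Kˣ, c ≠ 1 := by
    have h1 : 1 < Nat.card Kˣ := by
      rw [Nat.card_units, Nat.card_eq_fintype_card, hK]
      have : 2 ^ 3 ≤ 2 ^ (2 * m + 1) := Nat.pow_le_pow_right (by norm_num) (by omega)
      omega
    have h2 : Nontrivial Kˣ := Finite.one_lt_card_iff_nontrivial.1 h1
    exact exists_ne 1
  obtain ⟨S, hS⟩ : ∃ S : Cfsg.Agent.KFacts.TwF4.Full φ ↥(twistedF4 K (2 ^ m)), S.R.p = 2 :=
    ⟨Cfsg.Agent.KFacts.TwF4.Inst.full hK hφ, rfl⟩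
  have hG := Cfsg.Agent.S1068.result hK
  obtain ⟨q, hq⟩ : ∃ q, q = 2 ^ (2 * m + 1) := ⟨_, rfl⟩
  have hcF : Nat.card K = q := by rw [Nat.card_eq_fintype_card, hK, hq]
  rw [← hq] at hG
  have hq8 : 8 ≤ q := by
    rw [hq]
    calc 8 = 2 ^ 3 := by norm_num
      _ ≤ 2 ^ (2 * m + 1) := Nat.pow_le_pow_right (by norm_num) (by omega)
  have hq3 : q % 3 = 2 := by rw [hq]; exact mod_three m
  have hq2 : q % 2 = 0 := by
    rw [hq, pow_succ]
    exact Nat.mul_mod_left _ _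
  have hmult := Cfsg.Agent.H80.Fpf.multDvd_of_cyclic one_ne_zero (Cfsg.Agent.S2114.result hm hK)
  -- the triples
  have key : ∀ {a b : ℕ} [Fact a.Prime] [Fact b.Prime], a ≠ 2 → a ≠ 3 → b ≠ 2 → (q : ZMod a) ^ 2 - q + 1 = 0 →
      (q : ZMod b) ^ 4 - q ^ 2 + 1 = 0 → TripABC a b 2 ↥(twistedF4 K (2 ^ m)) := by
    intro a b ha hb ha2 ha3 hb2 h1 h2
    have hab : a ≠ b := by
      rintro rfl
      exact no_ab ha2 h1 h2
    have ha' : a ∣ Nat.card ↥(twistedF4 K (2 ^ m)) := by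
      rw [hG]
      exact (((dvd_a h1).mul_left _).mul_right _).mul_right _
    have hb' : b ∣ Nat.card ↥(twistedF4 K (2 ^ m)) := by
      rw [hG]
      exact (dvd_b h2).mul_left _
    obtain ⟨x, hx⟩ := exists_prime_orderOf_dvd_card' a ha'
    obtain ⟨y, hy⟩ := exists_prime_orderOf_dvd_card' b hb'
    obtain ⟨n1, n2, n3⟩ := no_a ha3 (by omega) h1
    obtain ⟨n4, n5, n6⟩ := no_b (by omega) h2
    obtain ⟨x', y', z', hx', hy', hz', h⟩ := tri ha.out hb.out hab (PE.of_orderOf ha.out hx) (PE.of_orderOf hb.out hy)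
      (odd_cent S hF hS ha.out ha2 (by rwa [hcF]) (by rwa [hcF]) (by rwa [hcF]) hx)
      (odd_cent S hF hS hb.out hb2 (by rwa [hcF]) (by rwa [hcF]) (by rwa [hcF]) hy)
    exact TripABC.of_mult hmult (fun s hs h => absurd (Nat.dvd_one.1 h) hs.one_lt.ne') ha.out hb.out Nat.prime_two hab
      ha2 hb2 hx' hy' hz' h
  intro p hp hp2 hd
  have hfp : Fact p.Prime := ⟨hp⟩
  rw [hG] at hd
  rcases cases hp2 hq (by omega) hd with h | h | ⟨h0, h⟩ | h
  · exact Or.inl (notMin_sz S hm hq hcF hF hG hp h)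
  · left
    refine notMin_sl hm hK hp ?_
    rwa [hK, ← hq]
  · right
    obtain ⟨b, hb, hb2, hb4⟩ := exists_b hq2 hq8
    have : Fact b.Prime := ⟨hb⟩
    refine ⟨p, b, 2, Or.inl rfl, Or.inr (Or.inr rfl), key hp2 ?_ hb2 h hb4⟩
    rintro rfl
    exact h0 (by omega)
  · right
    obtain ⟨a, ha, ha2, ha3, ha4⟩ := exists_a hq3 hq8
    have : Fact a.Prime := ⟨ha⟩
    exact ⟨a, p, 2, Or.inr (Or.inl rfl), Or.inr (Or.inr rfl), key ha2 ha3 hp2 ha4 h⟩

end row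

end Cfsg.Agent.H628.PQR.TwF
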