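import Cfsg.Agent.H562.PQR.GowRoot
import Cfsg.Agent.H628.PQR.TwFCore

/-!
# S3988, the row of `²F₄(q)`, `q ≥ 8` (helper628)
-/

set_option autoImplicit false

namespace Cfsg.Agent.H628.PQR.TwF

open Cfsg Cfsg.Agent.H562.PQR

/-- **The row of `²F₄(q)`.** -/
theorem row_2F4 {S : Type*} [Group S] (h : Cfsg.Lie.Iso2F4 S) : RowOdd S := by
  obtain ⟨K, _, _, m, hm, hK, ⟨e⟩⟩ := h
  refine RowOdd.congr e.symm (row_core hm hK fun ha hb hab x y hx hy h1 h2 => ?_)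
  have hL : IsLieTypeChar 2 ↥(Cfsg.Lie.twistedF4 K (2 ^ m)) :=
    Or.inr (Or.inr (Or.inr (Or.inr (Or.inr (Or.inr (Or.inr (Or.inr (Or.inr (Or.inl ⟨rfl, K, _, _, m, hm, hK,
      ⟨MulEquiv.refl _⟩⟩)))))))))
  have hfin : Finite ↥(Cfsg.Lie.twistedF4 K (2 ^ m)) := inferInstance
  exact tri_char Nat.prime_two hL ha hb hab hx hy h1 h2

end Cfsg.Agent.H628.PQR.TwF
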